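import Groth.Prelude.Def_W4bk6langav68Chow
import Groth.Agent.Sga3B.BcIso

/-!
Base change of abelian varieties along a field extension: properness, geometric integrality,
coherence of the tower isomorphisms, images and traces of a base change.
-/

set_option autoImplicit false
universe u
open CategoryTheory MonoidalCategory CartesianMonoidalCategory MonObj GrpObj AlgebraicGeometry

namespace K509.Basic

variable {S T U : Scheme.{u}}

instance isProper_bc (f : T ⟶ S) (A : Over S) [IsProper A.hom] : IsProper (Red.bc f A).hom :=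
  inferInstanceAs (IsProper (Limits.pullback.snd A.hom f))

instance geomInt_bc (f : T ⟶ S) (A : Over S) [GeometricallyIntegral A.hom] :
    GeometricallyIntegral (Red.bc f A).hom :=
  inferInstanceAs (GeometricallyIntegral (Limits.pullback.snd A.hom f))

theorem isIntegral_left {K : Type u} [Field K] (A : Over (Spec (CommRingCat.of K)))
    [GeometricallyIntegral A.hom] : IsIntegral A.left :=
  GeometricallyIntegral.isIntegral_of_subsingleton A.hom

/-- A split monomorphism into a separated scheme with surjective underlying map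
onto a reduced scheme is an isomorphism. -/
theorem isIso_of_split_of_surjective {X Y : Over S} (f : X ⟶ Y) (g : Y ⟶ X) (h : f ≫ g = 𝟙 X)
    [IsSeparated Y.hom] [Surjective f.left] [IsReduced Y.left] : IsIso f := by
  have h1 : f.left ≫ g.left = 𝟙 X.left := by rw [← Over.comp_left, h]; rfl
  have hg : IsSeparated g.left := by
    have : IsSeparated (g.left ≫ X.hom) := by rw [Over.w]; infer_instance
    exact IsSeparated.of_comp g.left X.hom
  have : IsClosedImmersion (f.left ≫ g.left) := by rw [h1]; infer_instance
  have : IsClosedImmersion f.left := IsClosedImmersion.of_comp f.left g.left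
  have : IsIso f.left := isIso_of_isClosedImmersion_of_surjective f.left
  have : IsIso ((Over.forget S).map f) := this
  exact isIso_of_reflects_iso f (Over.forget S)

/-- The square expressing the base change of a morphism over `S`. -/
theorem isPullback_map_left (f : T ⟶ S) {A B : Over S} (g : A ⟶ B) :
    IsPullback ((Over.pullback f).map g).left (Limits.pullback.fst A.hom f)
      (Limits.pullback.fst B.hom f) g.left := by
  have h1 : IsPullback (Limits.pullback.snd B.hom f) (Limits.pullback.fst B.hom f) f B.hom :=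
    (IsPullback.of_hasPullback B.hom f).flip
  refine IsPullback.of_right ?_ ?_ h1
  · have h2 : ((Over.pullback f).map g).left ≫ Limits.pullback.snd B.hom f =
        Limits.pullback.snd A.hom f := Over.w ((Over.pullback f).map g)
    have h3 : g.left ≫ B.hom = A.hom := Over.w g
    rw [h2, h3]
    exact (IsPullback.of_hasPullback A.hom f).flip
  · exact Limits.pullback.lift_fst _ _ _

theorem map_left_of_stable (P : MorphismProperty Scheme.{u}) [P.IsStableUnderBaseChange]
    (f : T ⟶ S) {A B : Over S} (g : A ⟶ B) (h : P g.left) : P ((Over.pullback f).map g).left :=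
  P.of_isPullback (isPullback_map_left f g).flip h

theorem surjective_map_left (f : T ⟶ S) {A B : Over S} (g : A ⟶ B) [h : Surjective g.left] :
    Surjective ((Over.pullback f).map g).left :=
  map_left_of_stable @Surjective f g h

theorem isFinite_map_left (f : T ⟶ S) {A B : Over S} (g : A ⟶ B) [h : IsFinite g.left] :
    IsFinite ((Over.pullback f).map g).left :=
  map_left_of_stable @IsFinite f g h

/-! ### Tower isomorphisms are homomorphisms -/

theorem bcCompIso_hom (q : U ⟶ T) (g : T ⟶ S) (G : Over S) [GrpObj G] :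
    (Groth.Agent.Sga3B.BcIso.bcCompIso q g G).hom.hom.hom = (Over.pullbackComp q g).hom.app G := by
  change (Over.pullbackComp q g).hom.app G ≫ 𝟙 _ = _
  exact Category.comp_id _

theorem bcCompIso_inv (q : U ⟶ T) (g : T ⟶ S) (G : Over S) [GrpObj G] :
    (Groth.Agent.Sga3B.BcIso.bcCompIso q g G).inv.hom.hom = (Over.pullbackComp q g).inv.app G := by
  change 𝟙 _ ≫ (Over.pullbackComp q g).inv.app G = _
  exact Category.id_comp _

theorem isMonHom_pullbackComp_hom (q : U ⟶ T) (g : T ⟶ S) (G : Over S) [GrpObj G] :
    IsMonHom (M := Red.bc (q ≫ g) G) (N := Red.bc q (Red.bc g G))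
      ((Over.pullbackComp q g).hom.app G) := by
  have h := (Groth.Agent.Sga3B.BcIso.bcCompIso q g G).hom.hom.isMonHom_hom
  rw [bcCompIso_hom] at h
  exact h

theorem isMonHom_pullbackComp_inv (q : U ⟶ T) (g : T ⟶ S) (G : Over S) [GrpObj G] :
    IsMonHom (M := Red.bc q (Red.bc g G)) (N := Red.bc (q ≫ g) G)
      ((Over.pullbackComp q g).inv.app G) := by
  have h := (Groth.Agent.Sga3B.BcIso.bcCompIso q g G).inv.hom.isMonHom_hom
  rw [bcCompIso_inv] at h
  exact h

theorem isMonHom_eqToHom {f f' : T ⟶ S} (h : f = f') (G : Over S) [GrpObj G]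
    (h' : Red.bc f G = Red.bc f' G) : IsMonHom (M := Red.bc f G) (N := Red.bc f' G) (eqToHom h') := by
  subst h
  rw [eqToHom_refl]
  infer_instance

/-- Naturality of `eqToHom` in the base morphism. -/
theorem eqToHom_naturality {f f' : T ⟶ S} (h : f = f') {G H : Over S} (i : G ⟶ H) :
    eqToHom (congrArg (fun φ => Red.bc φ G) h) ≫ (Over.pullback f').map i =
      (Over.pullback f).map i ≫ eqToHom (congrArg (fun φ => Red.bc φ H) h) := by
  subst h
  simp

/-- The tower isomorphism `G_U ≅ (G_T)_U` for a factorisation `h = q ≫ g`. -/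
noncomputable def tow {q : U ⟶ T} {g : T ⟶ S} {h : U ⟶ S} (e : q ≫ g = h) (G : Over S) :
    Red.bc h G ≅ Red.bc q (Red.bc g G) :=
  eqToIso (congrArg (fun φ => Red.bc φ G) e.symm) ≪≫ (Over.pullbackComp q g).app G

theorem tow_hom {q : U ⟶ T} {g : T ⟶ S} {h : U ⟶ S} (e : q ≫ g = h) (G : Over S) :
    (tow e G).hom = eqToHom (congrArg (fun φ => Red.bc φ G) e.symm) ≫
      (Over.pullbackComp q g).hom.app G := rfl

theorem tow_inv {q : U ⟶ T} {g : T ⟶ S} {h : U ⟶ S} (e : q ≫ g = h) (G : Over S) :
    (tow e G).inv = (Over.pullbackComp q g).inv.app G ≫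
      eqToHom (congrArg (fun φ => Red.bc φ G) e) := by
  subst e
  simp [tow]

instance isMonHom_tow_hom {q : U ⟶ T} {g : T ⟶ S} {h : U ⟶ S} (e : q ≫ g = h) (G : Over S)
    [GrpObj G] : IsMonHom (tow e G).hom := by
  let a : Red.bc h G ⟶ Red.bc (q ≫ g) G := eqToHom (congrArg (fun φ => Red.bc φ G) e.symm)
  let b : Red.bc (q ≫ g) G ⟶ Red.bc q (Red.bc g G) := (Over.pullbackComp q g).hom.app G
  have hb : IsMonHom b := isMonHom_pullbackComp_hom q g G
  have ha : IsMonHom a := isMonHom_eqToHom e.symm G (congrArg (fun φ => Red.bc φ G) e.symm)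
  change IsMonHom (a ≫ b)
  infer_instance

instance isMonHom_tow_inv {q : U ⟶ T} {g : T ⟶ S} {h : U ⟶ S} (e : q ≫ g = h) (G : Over S)
    [GrpObj G] : IsMonHom (tow e G).inv := inferInstance

/-- Naturality of the tower isomorphism. -/
theorem tow_naturality {q : U ⟶ T} {g : T ⟶ S} {h : U ⟶ S} (e : q ≫ g = h) {G H : Over S}
    (i : G ⟶ H) : (Over.pullback h).map i ≫ (tow e H).hom =
      (tow e G).hom ≫ (Over.pullback q).map ((Over.pullback g).map i) := by
  subst e
  simp only [tow_hom, eqToHom_refl]
  erw [Category.id_comp, Category.id_comp]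
  exact (Over.pullbackComp q g).hom.naturality i

theorem tow_naturality_inv {q : U ⟶ T} {g : T ⟶ S} {h : U ⟶ S} (e : q ≫ g = h) {G H : Over S}
    (i : G ⟶ H) : (Over.pullback q).map ((Over.pullback g).map i) ≫ (tow e H).inv =
      (tow e G).inv ≫ (Over.pullback h).map i := by
  rw [Iso.eq_inv_comp, ← Category.assoc, ← tow_naturality, Category.assoc, Iso.hom_inv_id,
    Category.comp_id]

end K509.Basic
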