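import Groth.Agent.AbVar.K509.Basic

/-!
Formal properties of Chow images and traces: the image of a base change, transitivity.
-/

set_option autoImplicit false
universe u
open CategoryTheory MonoidalCategory CartesianMonoidalCategory MonObj GrpObj AlgebraicGeometry

namespace K509.Tower

open K509.Basic

section General

variable {S T U : Scheme.{u}} {q : U ⟶ T} {g : T ⟶ S} {h : U ⟶ S} (hc : q ≫ g = h)

theorem fac_image (A' : Over U) (A₁ : Over T) (A₀ : Over S)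
    (lam₁ : A' ⟶ Red.bc q A₁) (lam : A₁ ⟶ Red.bc g A₀) (B : Over S) (α : A' ⟶ Red.bc h B)
    (α₁ : A₁ ⟶ Red.bc g B) (hα₁ : lam₁ ≫ (Over.pullback q).map α₁ = α ≫ (tow hc B).hom)
    (α₀ : A₀ ⟶ B) (hα₀ : lam ≫ (Over.pullback g).map α₀ = α₁) :
    (lam₁ ≫ (Over.pullback q).map lam ≫ (tow hc A₀).inv) ≫ (Over.pullback h).map α₀ = α := by
  have h1 := tow_naturality_inv hc α₀
  calc (lam₁ ≫ (Over.pullback q).map lam ≫ (tow hc A₀).inv) ≫ (Over.pullback h).map α₀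
      = lam₁ ≫ (Over.pullback q).map lam ≫ ((tow hc A₀).inv ≫ (Over.pullback h).map α₀) := by
        simp only [Category.assoc]
    _ = lam₁ ≫ (Over.pullback q).map lam ≫
          (Over.pullback q).map ((Over.pullback g).map α₀) ≫ (tow hc B).inv := by rw [h1]
    _ = lam₁ ≫ (Over.pullback q).map (lam ≫ (Over.pullback g).map α₀) ≫ (tow hc B).inv := by
        rw [CategoryTheory.Functor.map_comp, Category.assoc]
    _ = (lam₁ ≫ (Over.pullback q).map α₁) ≫ (tow hc B).inv := by rw [hα₀, Category.assoc]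
    _ = α := by rw [hα₁, Category.assoc, Iso.hom_inv_id, Category.comp_id]

theorem fac_trace (A' : Over U) (A₁ : Over T) (A₀ : Over S)
    (tau₁ : Red.bc q A₁ ⟶ A') (tau : Red.bc g A₀ ⟶ A₁) (B : Over S) (β : Red.bc h B ⟶ A')
    (β₁ : Red.bc g B ⟶ A₁) (hβ₁ : (Over.pullback q).map β₁ ≫ tau₁ = (tow hc B).inv ≫ β)
    (β₀ : B ⟶ A₀) (hβ₀ : (Over.pullback g).map β₀ ≫ tau = β₁) :
    (Over.pullback h).map β₀ ≫ (tow hc A₀).hom ≫ (Over.pullback q).map tau ≫ tau₁ = β := by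
  have h1 := tow_naturality hc β₀
  calc (Over.pullback h).map β₀ ≫ (tow hc A₀).hom ≫ (Over.pullback q).map tau ≫ tau₁
      = ((Over.pullback h).map β₀ ≫ (tow hc A₀).hom) ≫ (Over.pullback q).map tau ≫ tau₁ := by
        simp only [Category.assoc]
    _ = (tow hc B).hom ≫ (Over.pullback q).map ((Over.pullback g).map β₀) ≫
          (Over.pullback q).map tau ≫ tau₁ := by rw [h1, Category.assoc]
    _ = (tow hc B).hom ≫ (Over.pullback q).map ((Over.pullback g).map β₀ ≫ tau) ≫ tau₁ := by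
        rw [CategoryTheory.Functor.map_comp, Category.assoc]
    _ = β := by rw [hβ₀, hβ₁, Iso.hom_inv_id_assoc]

theorem isMonHom_image (A' : Over U) (A₁ : Over T) (A₀ : Over S) [GrpObj A'] [GrpObj A₁] [GrpObj A₀]
    (lam₁ : A' ⟶ Red.bc q A₁) (lam : A₁ ⟶ Red.bc g A₀) [IsMonHom lam₁] [IsMonHom lam] :
    IsMonHom (lam₁ ≫ (Over.pullback q).map lam ≫ (tow hc A₀).inv) := by
  let f : Red.bc q A₁ ⟶ Red.bc q (Red.bc g A₀) := (Over.pullback q).map lam
  have i₃ : IsMonHom f := inferInstance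
  change IsMonHom (lam₁ ≫ f ≫ (tow hc A₀).inv)
  infer_instance

theorem isMonHom_trace (A' : Over U) (A₁ : Over T) (A₀ : Over S) [GrpObj A'] [GrpObj A₁] [GrpObj A₀]
    (tau₁ : Red.bc q A₁ ⟶ A') (tau : Red.bc g A₀ ⟶ A₁) [IsMonHom tau₁] [IsMonHom tau] :
    IsMonHom ((tow hc A₀).hom ≫ (Over.pullback q).map tau ≫ tau₁) := by
  let f : Red.bc q (Red.bc g A₀) ⟶ Red.bc q A₁ := (Over.pullback q).map tau
  have i₃ : IsMonHom f := inferInstance
  change IsMonHom ((tow hc A₀).hom ≫ f ≫ tau₁)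
  infer_instance

theorem surjective_image (A' : Over U) (A₁ : Over T) (A₀ : Over S)
    (lam₁ : A' ⟶ Red.bc q A₁) (lam : A₁ ⟶ Red.bc g A₀) [Surjective lam₁.left]
    [Surjective lam.left] :
    Surjective (lam₁ ≫ (Over.pullback q).map lam ≫ (tow hc A₀).inv).left := by
  have s₃ : Surjective ((Over.pullback q).map lam).left := surjective_map_left _ _
  have s₄ : Surjective (tow hc A₀).inv.left := by
    have : IsIso (tow hc A₀).inv.left := inferInstanceAs (IsIso ((Over.forget U).map (tow hc A₀).inv))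
    infer_instance
  rw [Over.comp_left, Over.comp_left]
  have : Surjective (((Over.pullback q).map lam).left ≫ (tow hc A₀).inv.left) := inferInstance
  infer_instance

theorem isFinite_trace (A' : Over U) (A₁ : Over T) (A₀ : Over S)
    (tau₁ : Red.bc q A₁ ⟶ A') (tau : Red.bc g A₀ ⟶ A₁) [IsFinite tau₁.left] [IsFinite tau.left] :
    IsFinite ((tow hc A₀).hom ≫ (Over.pullback q).map tau ≫ tau₁).left := by
  have s₃ : IsFinite ((Over.pullback q).map tau).left := isFinite_map_left _ _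
  have s₄ : IsFinite (tow hc A₀).hom.left := by
    have : IsIso (tow hc A₀).hom.left := inferInstanceAs (IsIso ((Over.forget U).map (tow hc A₀).hom))
    infer_instance
  rw [Over.comp_left, Over.comp_left]
  have : IsFinite (((Over.pullback q).map tau).left ≫ tau₁.left) := inferInstance
  infer_instance

/-- The Chow image property along an arbitrary morphism of bases. -/
structure IsImg (g : T ⟶ S) (A : Over T) [GrpObj A] (A₀ : Over S) [GrpObj A₀]
    (lam : A ⟶ Red.bc g A₀) : Prop where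
  isMonHom : IsMonHom lam
  surjective : Surjective lam.left
  fac : ∀ (B : Over S) [GrpObj B] [IsProper B.hom] [GeometricallyIntegral B.hom]
    (α : A ⟶ Red.bc g B) [IsMonHom α],
    ∃ α₀ : A₀ ⟶ B, IsMonHom α₀ ∧ lam ≫ (Over.pullback g).map α₀ = α

/-- The Chow trace property along an arbitrary morphism of bases. -/
structure IsTr (g : T ⟶ S) (A : Over T) [GrpObj A] (A' : Over S) [GrpObj A']
    (tau : Red.bc g A' ⟶ A) : Prop where
  isMonHom : IsMonHom tau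
  isFinite : IsFinite tau.left
  fac : ∀ (B : Over S) [GrpObj B] [IsProper B.hom] [GeometricallyIntegral B.hom]
    (β : Red.bc g B ⟶ A) [IsMonHom β],
    ∃ β₀ : B ⟶ A', IsMonHom β₀ ∧ (Over.pullback g).map β₀ ≫ tau = β

theorem IsImg.comp {A' : Over U} {A₁ : Over T} {A₀ : Over S} [GrpObj A'] [GrpObj A₁] [GrpObj A₀]
    {lam₁ : A' ⟶ Red.bc q A₁} (h₁ : IsImg q A' A₁ lam₁)
    {lam : A₁ ⟶ Red.bc g A₀} (h₀ : IsImg g A₁ A₀ lam) :
    IsImg h A' A₀ (lam₁ ≫ (Over.pullback q).map lam ≫ (tow hc A₀).inv) := by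
  have i₁ := h₁.isMonHom
  have i₂ := h₀.isMonHom
  have s₁ := h₁.surjective
  have s₂ := h₀.surjective
  refine ⟨isMonHom_image hc A' A₁ A₀ lam₁ lam, surjective_image hc A' A₁ A₀ lam₁ lam, ?_⟩
  intro B _ _ _ α _
  obtain ⟨α₁, m₁, hα₁⟩ := h₁.fac (Red.bc g B) (α ≫ (tow hc B).hom)
  obtain ⟨α₀, m₀, hα₀⟩ := h₀.fac B α₁
  exact ⟨α₀, m₀, fac_image hc A' A₁ A₀ lam₁ lam B α α₁ hα₁ α₀ hα₀⟩

theorem IsTr.comp {A' : Over U} {A₁ : Over T} {A₀ : Over S} [GrpObj A'] [GrpObj A₁] [GrpObj A₀]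
    {tau₁ : Red.bc q A₁ ⟶ A'} (h₁ : IsTr q A' A₁ tau₁)
    {tau : Red.bc g A₀ ⟶ A₁} (h₀ : IsTr g A₁ A₀ tau) :
    IsTr h A' A₀ ((tow hc A₀).hom ≫ (Over.pullback q).map tau ≫ tau₁) := by
  have i₁ := h₁.isMonHom
  have i₂ := h₀.isMonHom
  have s₁ := h₁.isFinite
  have s₂ := h₀.isFinite
  refine ⟨isMonHom_trace hc A' A₁ A₀ tau₁ tau, isFinite_trace hc A' A₁ A₀ tau₁ tau, ?_⟩
  intro B _ _ _ β _
  obtain ⟨β₁, m₁, hβ₁⟩ := h₁.fac (Red.bc g B) ((tow hc B).inv ≫ β)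
  obtain ⟨β₀, m₀, hβ₀⟩ := h₀.fac B β₁
  exact ⟨β₀, m₀, fac_trace hc A' A₁ A₀ tau₁ tau B β β₁ hβ₁ β₀ hβ₀⟩

theorem IsImg.comp' {A' : Over U} {A₁ : Over T} {A₀ : Over S} [GrpObj A'] [GrpObj A₁] [GrpObj A₀]
    {lam₁ : A' ⟶ Red.bc q A₁} (h₁ : IsImg q A' A₁ lam₁)
    {lam : A₁ ⟶ Red.bc g A₀} (h₀ : IsImg g A₁ A₀ lam) :
    IsImg h A' A₀ (lam₁ ≫ (Over.pullback q).map lam ≫
      (Over.pullbackComp q g).inv.app A₀ ≫ eqToHom (congrArg (fun φ => Red.bc φ A₀) hc)) := by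
  have := IsImg.comp hc h₁ h₀
  rwa [tow_inv] at this

theorem IsTr.comp' {A' : Over U} {A₁ : Over T} {A₀ : Over S} [GrpObj A'] [GrpObj A₁] [GrpObj A₀]
    {tau₁ : Red.bc q A₁ ⟶ A'} (h₁ : IsTr q A' A₁ tau₁)
    {tau : Red.bc g A₀ ⟶ A₁} (h₀ : IsTr g A₁ A₀ tau) :
    IsTr h A' A₀ (eqToHom (congrArg (fun φ => Red.bc φ A₀) hc.symm) ≫
      (Over.pullbackComp q g).hom.app A₀ ≫ (Over.pullback q).map tau ≫ tau₁) := by
  have := IsTr.comp hc h₁ h₀
  rw [tow_hom] at this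
  have e : (eqToHom (congrArg (fun φ => Red.bc φ A₀) hc.symm) ≫
      (Over.pullbackComp q g).hom.app A₀ ≫ (Over.pullback q).map tau ≫ tau₁) =
      (eqToHom (congrArg (fun φ => Red.bc φ A₀) hc.symm) ≫
      (Over.pullbackComp q g).hom.app A₀) ≫ (Over.pullback q).map tau ≫ tau₁ := by
    rw [Category.assoc]
  rw [e]
  exact this

end General

theorem isImg_iff (k K : Type u) [Field k] [Field K] [Algebra k K]
    (A : Over (Spec (CommRingCat.of K))) [GrpObj A]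
    (A₀ : Over (Spec (CommRingCat.of k))) [GrpObj A₀] (lam : A ⟶ Red.bc (AbVar.ext k K) A₀) :
    AbVar.IsChowImage k K A A₀ lam ↔ IsImg (AbVar.ext k K) A A₀ lam :=
  ⟨fun h => ⟨h.isMonHom, h.surjective, h.fac⟩, fun h => ⟨h.isMonHom, h.surjective, h.fac⟩⟩

theorem isTr_iff (k K : Type u) [Field k] [Field K] [Algebra k K]
    (A : Over (Spec (CommRingCat.of K))) [GrpObj A]
    (A' : Over (Spec (CommRingCat.of k))) [GrpObj A'] (tau : Red.bc (AbVar.ext k K) A' ⟶ A) :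
    AbVar.IsChowTrace k K A A' tau ↔ IsTr (AbVar.ext k K) A A' tau :=
  ⟨fun h => ⟨h.isMonHom, h.isFinite, h.fac⟩, fun h => ⟨h.isMonHom, h.isFinite, h.fac⟩⟩

theorem isIso_chowImage (k K : Type u) [Field k] [Field K] [Algebra k K]
    (A : Over (Spec (CommRingCat.of K))) [GrpObj A]
    (A₀ : Over (Spec (CommRingCat.of k))) [GrpObj A₀] [IsProper A₀.hom] [GeometricallyIntegral A₀.hom]
    (lam : A ⟶ Red.bc (AbVar.ext k K) A₀) (h : AbVar.IsChowImage k K A A₀ lam)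
    (B : Over (Spec (CommRingCat.of k))) [GrpObj B] [IsProper B.hom] [GeometricallyIntegral B.hom]
    (e : Red.bc (AbVar.ext k K) B ≅ A) [IsMonHom e.hom] :
    IsIso lam := by
  have : IsMonHom e.inv := inferInstance
  obtain ⟨α₀, _, hα⟩ := h.fac B e.inv
  have := h.surjective
  have : IsIntegral (Red.bc (AbVar.ext k K) A₀).left := isIntegral_left _
  refine isIso_of_split_of_surjective lam ((Over.pullback (AbVar.ext k K)).map α₀ ≫ e.hom) ?_
  rw [← Category.assoc, hα, e.inv_hom_id]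


end K509.Tower
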