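import Groth.Agent.AbVar.K509.Chow
import Groth.Agent.AbVar.K509.Tower
import Groth.Agent.S2150

/-!
# Chow's theorem for homomorphisms, primary extensions

`exists_monHom_of_isPrimaryExt`: `K'/K` primary, `A` an abelian variety over `K`, `C` a separated group scheme
over `K`: every homomorphism `A_{K'} ⟶ C_{K'}` is the base change of a homomorphism `A ⟶ C`.
`map_injective_ext`: uniqueness.
-/

set_option autoImplicit false
universe u
open AlgebraicGeometry CategoryTheory Limits MonoidalCategory CartesianMonoidalCategory MonObj GrpObj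

namespace K509.ChowHom

open K509.Chow K509.Basic K509.Tower

section descend

variable {k : Type u} [Field k] {T : Scheme.{u}} (t : T ⟶ Spec (CommRingCat.of k)) [Nonempty T]
  [QuasiCompact t]

include t in
theorem isMonHom_of_map (A C : Over (Spec (CommRingCat.of k))) [GrpObj A] [GrpObj C] (g : A ⟶ C)
    (f : Red.bc t A ⟶ Red.bc t C) [IsMonHom f] (hg : (Over.pullback t).map g = f) : IsMonHom g := by
  have key : (fst A A * snd A A) ≫ g = (fst A A ≫ g) * (snd A A ≫ g) := by
    apply map_injective t
    rw [CategoryTheory.Functor.map_comp, Functor.map_mul, Functor.map_mul,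
      CategoryTheory.Functor.map_comp, CategoryTheory.Functor.map_comp, hg]
    exact MonObj.mul_comp (M := Red.bc t A) (N := Red.bc t C) _ _ f
  have hmul : ∀ {X : Over (Spec (CommRingCat.of k))} (a b : X ⟶ A), (a * b) ≫ g = (a ≫ g) * (b ≫ g) := by
    intro X a b
    have h1 : lift a b ≫ ((fst A A * snd A A) ≫ g) = lift a b ≫ ((fst A A ≫ g) * (snd A A ≫ g)) := by
      rw [key]
    rw [← Category.assoc, MonObj.comp_mul, lift_fst, lift_snd, MonObj.comp_mul, ← Category.assoc, lift_fst,
      ← Category.assoc, lift_snd] at h1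
    exact h1
  have hone : (1 : 𝟙_ (Over (Spec (CommRingCat.of k))) ⟶ A) ≫ g = 1 := by
    have h2 := hmul (1 : 𝟙_ (Over (Spec (CommRingCat.of k))) ⟶ A) 1
    rw [_root_.mul_one] at h2
    exact left_eq_mul.mp h2
  constructor
  · rw [MonObj.one_eq_one, hone, MonObj.one_eq_one]
  · have h3 : (fst A A * snd A A : A ⊗ A ⟶ A) = μ := by
      rw [Hom.mul_def, lift_fst_snd, Category.id_comp]
    rw [← h3, key, Hom.mul_def]
    congr 1

theorem exists_monHom (A C : Over (Spec (CommRingCat.of k))) [GrpObj A] [IsProper A.hom]
    [GeometricallyIntegral A.hom] [GrpObj C] [IsSeparated C.hom] [Subsingleton T]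
    [IrreducibleSpace ↥(pullback t t)] (f : Red.bc t A ⟶ Red.bc t C) [IsMonHom f] :
    ∃ g : A ⟶ C, IsMonHom g ∧ (Over.pullback t).map g = f := by
  obtain ⟨g, hg⟩ := exists_hom A C t f (IsMonHom.one_hom f)
  exact ⟨g, isMonHom_of_map t A C g f hg, hg⟩

end descend

section primary

variable (k K : Type u) [Field k] [Field K] [Algebra k K]

theorem irreducibleSpace_of_isPrimaryExt (h : AbVar.IsPrimaryExt k K) :
    IrreducibleSpace ↥(pullback (AbVar.ext k K) (AbVar.ext k K)) := by
  have h1 : IrreducibleSpace (PrimeSpectrum (TensorProduct k K K)) :=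
    Groth.Agent.S2150.result.2 h K
  have e := (pullbackSpecIso k K K)
  have h2 : IrreducibleSpace ↥(Spec (CommRingCat.of (TensorProduct k K K))) := h1
  exact e.symm.schemeIsoToHomeo.surjective.irreducibleSpace e.symm.schemeIsoToHomeo.continuous

instance : Nonempty (Spec (CommRingCat.of K)) := inferInstanceAs (Nonempty (PrimeSpectrum K))

instance : Subsingleton (Spec (CommRingCat.of K)) := inferInstanceAs (Subsingleton (PrimeSpectrum K))

/-- Chow's theorem: homomorphisms out of an abelian variety descend along primary extensions. -/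
theorem exists_monHom_of_isPrimaryExt (h : AbVar.IsPrimaryExt k K)
    (A C : Over (Spec (CommRingCat.of k))) [GrpObj A] [IsProper A.hom]
    [GeometricallyIntegral A.hom] [GrpObj C] [IsSeparated C.hom]
    (f : Red.bc (AbVar.ext k K) A ⟶ Red.bc (AbVar.ext k K) C) [IsMonHom f] :
    ∃ g : A ⟶ C, IsMonHom g ∧ (Over.pullback (AbVar.ext k K)).map g = f := by
  have := irreducibleSpace_of_isPrimaryExt k K h
  exact exists_monHom (AbVar.ext k K) A C f

/-- Base change along a field extension is faithful. -/
theorem map_injective_ext (A C : Over (Spec (CommRingCat.of k))) {g g' : A ⟶ C}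
    (h : (Over.pullback (AbVar.ext k K)).map g = (Over.pullback (AbVar.ext k K)).map g') : g = g' :=
  map_injective (AbVar.ext k K) A C h

end primary

end K509.ChowHom
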