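import Groth.Agent.AbVar.K509.Rigid
import Groth.Agent.AbVar.K509.Basic
import Mathlib.AlgebraicGeometry.Sites.Fpqc

/-!
# Chow's theorem

`A` proper geometrically integral group scheme over a field `k`, `C` a separated group scheme over `k`,
`T ⟶ Spec k` a one-point scheme with `T ×_k T` irreducible. Every homomorphism `A_T ⟶ C_T`
is the base change of a unique homomorphism `A ⟶ C`.
-/

set_option autoImplicit false
universe u
open AlgebraicGeometry CategoryTheory Limits MonoidalCategory CartesianMonoidalCategory MonObj GrpObj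

namespace K509.Chow

open K509.Rigid K509.Basic

variable {k : Type u} [Field k]

/-- Two pull-backs of a pointed family of morphisms agree. -/
theorem pullbacks_eq (A C T : Over (Spec (CommRingCat.of k))) [GrpObj A] [IsProper A.hom]
    [GeometricallyIntegral A.hom] [GrpObj C] [IsSeparated C.hom] [Nonempty T.left]
    [Subsingleton T.left] [IrreducibleSpace (T ⊗ T).left] (φ : A ⊗ T ⟶ C)
    (hφ : lift (toUnit T ≫ η[A]) (𝟙 T) ≫ φ = toUnit T ≫ η[C]) :
    (A ◁ fst T T) ≫ φ = (A ◁ snd T T) ≫ φ := by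
  let Δ : T ⟶ T ⊗ T := lift (𝟙 T) (𝟙 T)
  let ψ : A ⊗ (T ⊗ T) ⟶ C := ((A ◁ fst T T) ≫ φ) * ((A ◁ snd T T) ≫ φ)⁻¹
  have hsub : Subsingleton (Spec (CommRingCat.of k)) := inferInstanceAs (Subsingleton (PrimeSpectrum k))
  let pt : T.left := Classical.arbitrary _
  have hΔψ : (A ◁ Δ) ≫ ψ = 1 := by
    have h1 : (A ◁ Δ) ≫ (A ◁ fst T T) = 𝟙 _ := by
      rw [← MonoidalCategory.whiskerLeft_comp, lift_fst, MonoidalCategory.whiskerLeft_id]
    have h2 : (A ◁ Δ) ≫ (A ◁ snd T T) = 𝟙 _ := by
      rw [← MonoidalCategory.whiskerLeft_comp, lift_snd, MonoidalCategory.whiskerLeft_id]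
    rw [MonObj.comp_mul, GrpObj.comp_inv, ← Category.assoc, ← Category.assoc, h1, h2, mul_inv_cancel]
  have hpb : IsPullback (A ◁ Δ).left (snd A T).left (snd A (T ⊗ T)).left Δ.left :=
    (isPullback_whiskerLeft A Δ).map (Over.forget _)
  have hval : ∀ z : (A ⊗ (T ⊗ T)).left, (snd A (T ⊗ T)).left z = Δ.left pt →
      ψ.left z = (η[C] : 𝟙_ (Over (Spec (CommRingCat.of k))) ⟶ C).left (IsLocalRing.closedPoint k) := by
    intro z hz
    obtain ⟨w, hw, -⟩ := Scheme.exists_preimage_of_isPullback hpb z pt hz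
    rw [← hw, ← Scheme.Hom.comp_apply, ← Over.comp_left, hΔψ]
    have h3 : (1 : A ⊗ T ⟶ C) = toUnit _ ≫ η[C] := rfl
    rw [h3, Over.comp_left, Scheme.Hom.comp_apply]
    congr 1
    exact hsub.elim _ _
  have hr := rigid A (T ⊗ T) C ψ η[A] (Δ.left pt) (fun z z' hz hz' => by
    rw [hval z hz, hval z' hz'])
  have hone : ∀ p : T ⊗ T ⟶ T, lift (toUnit _ ≫ η[A]) (snd A (T ⊗ T)) ≫ (A ◁ p) ≫ φ = 1 := by
    intro p
    have h4 : lift (toUnit _ ≫ η[A]) (snd A (T ⊗ T)) ≫ (A ◁ p) =
        (snd A (T ⊗ T) ≫ p) ≫ lift (toUnit T ≫ η[A]) (𝟙 T) := by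
      apply CartesianMonoidalCategory.hom_ext
      · simp
      · simp
    rw [← Category.assoc, h4, Category.assoc, hφ, ← Category.assoc]
    have h3 : (1 : A ⊗ (T ⊗ T) ⟶ C) = toUnit _ ≫ η[C] := rfl
    rw [h3]
    congr 1
    exact toUnit_unique _ _
  have h5 : ψ = 1 := by
    rw [hr]
    change _ ≫ (_ * _) = _
    rw [MonObj.comp_mul, GrpObj.comp_inv, hone, hone, _root_.inv_one, _root_.mul_one]
  exact mul_inv_eq_one.mp h5

/-- Descent of a family along `T ⟶ Spec k`. -/
theorem exists_descent (A C T : Over (Spec (CommRingCat.of k))) [IsSeparated C.hom] [Nonempty T.left]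
    [QuasiCompact T.hom] (φ : A ⊗ T ⟶ C) (h : (A ◁ fst T T) ≫ φ = (A ◁ snd T T) ≫ φ) :
    ∃ g : A ⟶ C, fst A T ≫ g = φ := by
  have hsub : Subsingleton (Spec (CommRingCat.of k)) := inferInstanceAs (Subsingleton (PrimeSpectrum k))
  have hT : Surjective T.hom := ⟨fun y => ⟨Classical.arbitrary _, hsub.elim _ _⟩⟩
  have hpb : IsPullback (fst A T).left (snd A T).left A.hom T.hom := IsPullback.of_hasPullback _ _
  have hF : Flat (fst A T).left := MorphismProperty.of_isPullback (P := @Flat) hpb.flip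
    (inferInstanceAs (Flat T.hom))
  have hS : Surjective (fst A T).left := MorphismProperty.of_isPullback (P := @Surjective) hpb.flip hT
  have hQ : QuasiCompact (fst A T).left :=
    MorphismProperty.of_isPullback (P := @QuasiCompact) hpb.flip inferInstance
  have key : ∀ {Z : Scheme.{u}} (g₁ g₂ : Z ⟶ (A ⊗ T).left),
      g₁ ≫ (fst A T).left = g₂ ≫ (fst A T).left → g₁ ≫ φ.left = g₂ ≫ φ.left := by
    intro Z g₁ g₂ hg
    let Z' : Over (Spec (CommRingCat.of k)) := Over.mk (g₁ ≫ (A ⊗ T).hom)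
    let G₁ : Z' ⟶ A ⊗ T := Over.homMk g₁ rfl
    let G₂ : Z' ⟶ A ⊗ T := Over.homMk g₂ (by
      have h1 : (A ⊗ T).hom = (fst A T).left ≫ A.hom := (Over.w (fst A T)).symm
      rw [h1]
      change g₂ ≫ _ = g₁ ≫ (A ⊗ T).hom
      rw [h1, ← Category.assoc, ← Category.assoc, hg])
    have h2 : G₁ ≫ fst A T = G₂ ≫ fst A T := by
      ext1
      exact hg
    let G : Z' ⟶ A ⊗ (T ⊗ T) := lift (G₁ ≫ fst A T) (lift (G₁ ≫ snd A T) (G₂ ≫ snd A T))
    have h3 : G ≫ (A ◁ fst T T) = G₁ := by
      apply CartesianMonoidalCategory.hom_ext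
      · simp [G]
      · simp [G]
    have h4 : G ≫ (A ◁ snd T T) = G₂ := by
      apply CartesianMonoidalCategory.hom_ext
      · simp [G, h2]
      · simp [G]
    have h5 : G₁ ≫ φ = G₂ ≫ φ := by
      rw [← h3, ← h4, Category.assoc, Category.assoc, h]
    exact congrArg (fun f => f.left) h5
  let g₀ : A.left ⟶ C.left := EffectiveEpi.desc (fst A T).left φ.left (fun g₁ g₂ hg => key g₁ g₂ hg)
  have hg₀ : (fst A T).left ≫ g₀ = φ.left := EffectiveEpi.fac _ _ _
  have hw : g₀ ≫ C.hom = A.hom := by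
    rw [← cancel_epi (fst A T).left, ← Category.assoc, hg₀, Over.w, Over.w]
  refine ⟨Over.homMk g₀ hw, ?_⟩
  ext1
  exact hg₀

instance epi_fst (A T : Over (Spec (CommRingCat.of k))) [Nonempty T.left]
    [QuasiCompact T.hom] : Epi (fst A T) := by
  have hsub : Subsingleton (Spec (CommRingCat.of k)) := inferInstanceAs (Subsingleton (PrimeSpectrum k))
  have hT : Surjective T.hom := ⟨fun y => ⟨Classical.arbitrary _, hsub.elim _ _⟩⟩
  have hpb : IsPullback (fst A T).left (snd A T).left A.hom T.hom := IsPullback.of_hasPullback _ _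
  have hF : Flat (fst A T).left := MorphismProperty.of_isPullback (P := @Flat) hpb.flip
    (inferInstanceAs (Flat T.hom))
  have hS : Surjective (fst A T).left := MorphismProperty.of_isPullback (P := @Surjective) hpb.flip hT
  have hQ : QuasiCompact (fst A T).left :=
    MorphismProperty.of_isPullback (P := @QuasiCompact) hpb.flip inferInstance
  have : Epi ((Over.forget _).map (fst A T)) := inferInstanceAs (Epi (fst A T).left)
  exact (Over.forget _).epi_of_epi_map this

/-! ### Base change along a morphism -/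

section bc

variable {S T : Scheme.{u}} (t : T ⟶ S)

/-- The unit section of a base change. -/
theorem unit_bc (G : Over S) [GrpObj G] :
    (η[Red.bc t G] : 𝟙_ _ ⟶ Red.bc t G).left ≫ pullback.fst G.hom t =
      t ≫ (η[G] : 𝟙_ (Over S) ⟶ G).left := by
  have h1 : (η[Red.bc t G] : 𝟙_ _ ⟶ Red.bc t G) =
      Functor.LaxMonoidal.ε (Over.pullback t) ≫ (Over.pullback t).map η[G] := rfl
  rw [h1, Over.comp_left, Category.assoc]
  have h2 : ((Over.pullback t).map η[G]).left ≫ pullback.fst G.hom t =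
      pullback.fst (𝟙_ (Over S)).hom t ≫ (η[G] : 𝟙_ (Over S) ⟶ G).left :=
    pullback.lift_fst _ _ _
  rw [h2, ← Category.assoc]
  congr 1
  have h3 : (Functor.LaxMonoidal.ε (Over.pullback t)).left ≫ pullback.snd (𝟙_ (Over S)).hom t = 𝟙 T :=
    Over.w (Functor.LaxMonoidal.ε (Over.pullback t))
  have h4' : pullback.fst (𝟙_ (Over S)).hom t ≫ 𝟙 S = pullback.snd (𝟙_ (Over S)).hom t ≫ t :=
    pullback.condition
  have h4 : pullback.fst (𝟙_ (Over S)).hom t = pullback.snd (𝟙_ (Over S)).hom t ≫ t :=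
    (Category.comp_id (pullback.fst (𝟙_ (Over S)).hom t)).symm.trans h4'
  rw [h4, ← Category.assoc, h3]
  exact Category.id_comp t

/-- The family attached to a morphism of base changes. -/
noncomputable def fam {A C : Over S} (f : Red.bc t A ⟶ Red.bc t C) : A ⊗ Over.mk t ⟶ C :=
  Over.homMk (f.left ≫ pullback.fst C.hom t) (by
    have h1 : f.left ≫ pullback.snd C.hom t = pullback.snd A.hom t := Over.w f
    rw [Category.assoc, pullback.condition, ← Category.assoc, h1]
    exact pullback.condition.symm)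

theorem fam_left {A C : Over S} (f : Red.bc t A ⟶ Red.bc t C) :
    (fam t f).left = f.left ≫ pullback.fst C.hom t := rfl

theorem fam_injective {A C : Over S} {f g : Red.bc t A ⟶ Red.bc t C} (h : fam t f = fam t g) :
    f = g := by
  ext1
  apply pullback.hom_ext
  · exact congrArg (fun x => x.left) h
  · exact (Over.w f).trans (Over.w g).symm

theorem fam_map {A C : Over S} (g : A ⟶ C) : fam t ((Over.pullback t).map g) = fst A _ ≫ g := by
  ext1
  exact pullback.lift_fst _ _ _

theorem lift_fam {A C : Over S} [GrpObj A] [GrpObj C] (f : Red.bc t A ⟶ Red.bc t C)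
    (hf : η[Red.bc t A] ≫ f = η[Red.bc t C]) :
    lift (toUnit (Over.mk t) ≫ η[A]) (𝟙 (Over.mk t)) ≫ fam t f = toUnit _ ≫ η[C] := by
  ext1
  rw [Over.comp_left, fam_left, Over.comp_left]
  have h0 : (toUnit (Over.mk t)).left = t := by
    have := Over.w (toUnit (Over.mk t))
    change _ ≫ 𝟙 S = _ at this
    rwa [Category.comp_id] at this
  have h1 : (lift (toUnit (Over.mk t) ≫ η[A]) (𝟙 (Over.mk t))).left =
      (η[Red.bc t A] : 𝟙_ _ ⟶ Red.bc t A).left := by
    apply pullback.hom_ext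
    · refine Eq.trans ?_ (unit_bc t A).symm
      have h2 : (lift (toUnit (Over.mk t) ≫ η[A]) (𝟙 (Over.mk t)) ≫ fst A (Over.mk t)).left =
          (toUnit (Over.mk t) ≫ η[A]).left := by rw [lift_fst]
      rw [Over.comp_left, Over.comp_left, h0] at h2
      exact h2
    · have h2 : (lift (toUnit (Over.mk t) ≫ η[A]) (𝟙 (Over.mk t)) ≫ snd A (Over.mk t)).left =
          (𝟙 (Over.mk t) : Over.mk t ⟶ Over.mk t).left := by rw [lift_snd]
      rw [Over.comp_left] at h2
      refine h2.trans ?_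
      exact (Over.w (η[Red.bc t A] : 𝟙_ _ ⟶ Red.bc t A)).symm
  rw [h1, ← Category.assoc, ← Over.comp_left, hf, unit_bc, h0]

end bc

/-- Chow's theorem for a one-point scheme with irreducible square. -/
theorem exists_hom (A C : Over (Spec (CommRingCat.of k))) [GrpObj A] [IsProper A.hom]
    [GeometricallyIntegral A.hom] [GrpObj C] [IsSeparated C.hom] {T : Scheme.{u}}
    (t : T ⟶ Spec (CommRingCat.of k)) [Nonempty T] [Subsingleton T] [QuasiCompact t]
    [IrreducibleSpace ↥(pullback t t)] (f : Red.bc t A ⟶ Red.bc t C)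
    (hf : η[Red.bc t A] ≫ f = η[Red.bc t C]) :
    ∃ g : A ⟶ C, (Over.pullback t).map g = f := by
  have i1 : Nonempty (Over.mk t).left := ‹Nonempty T›
  have i2 : Subsingleton (Over.mk t).left := ‹Subsingleton T›
  have i3 : IrreducibleSpace (Over.mk t ⊗ Over.mk t : Over (Spec (CommRingCat.of k))).left :=
    ‹IrreducibleSpace ↥(pullback t t)›
  have i4 : QuasiCompact (Over.mk t).hom := ‹QuasiCompact t›
  obtain ⟨g, hg⟩ := exists_descent A C (Over.mk t) (fam t f)
    (pullbacks_eq A C (Over.mk t) (fam t f) (lift_fam t f hf))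
  refine ⟨g, ?_⟩
  apply fam_injective
  rw [fam_map, hg]

/-- Base change along a one-point scheme is faithful. -/
theorem map_injective {T : Scheme.{u}}
    (t : T ⟶ Spec (CommRingCat.of k)) [Nonempty T] [QuasiCompact t]
    (A C : Over (Spec (CommRingCat.of k))) {g g' : A ⟶ C}
    (h : (Over.pullback t).map g = (Over.pullback t).map g') : g = g' := by
  have i1 : Nonempty (Over.mk t).left := ‹Nonempty T›
  have i4 : QuasiCompact (Over.mk t).hom := ‹QuasiCompact t›
  rw [← cancel_epi (fst A (Over.mk t)), ← fam_map, ← fam_map, h]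

end K509.Chow
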