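import Groth.Agent.AbVar.K509.SpreadAlg
import Groth.Agent.AbVar.K509.ChowHom

/-!
# The compositum of a primary extension and a linearly disjoint extension is primary
-/

set_option autoImplicit false
universe u
open scoped TensorProduct

namespace Groth.Agent.AbVar.K509.PrimComp

open SpreadAlg

theorem irreducible_of_frac {R R' : Type u} [CommRing R] [CommRing R'] (j : R →+* R') (hj : Function.Injective j)
    (hfrac : ∀ x : R', ∃ s r : R, IsUnit (j s) ∧ x * j s = j r) [IrreducibleSpace (PrimeSpectrum R)] :
    IrreducibleSpace (PrimeSpectrum R') := by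
  have h1 : (nilradical R).IsPrime := PrimeSpectrum.irreducibleSpace_iff_isPrime_nilradical.mp inferInstance
  rw [PrimeSpectrum.irreducibleSpace_iff_isPrime_nilradical]
  have key : ∀ {x : R'} {s r : R}, IsUnit (j s) → x * j s = j r → (IsNilpotent x ↔ IsNilpotent r) := by
    intro x s r hs h
    rw [← IsNilpotent.map_iff (f := j) hj, ← h]
    refine ⟨fun ⟨n, hn⟩ => ⟨n, by rw [mul_pow, hn, zero_mul]⟩, fun ⟨n, hn⟩ => ⟨n, ?_⟩⟩
    rw [mul_pow] at hn
    exact (IsUnit.mul_left_eq_zero (hs.pow n)).mp hn
  refine ⟨?_, ?_⟩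
  · rw [Ideal.ne_top_iff_one, mem_nilradical]
    intro h
    have h2 : ¬ IsNilpotent (1 : R) := by
      rw [← mem_nilradical]
      exact (Ideal.ne_top_iff_one _).mp h1.ne_top
    apply h2
    rw [← IsNilpotent.map_iff (f := j) hj, map_one]
    exact h
  · intro a b hab
    obtain ⟨s, r, hs, hr⟩ := hfrac a
    obtain ⟨s', r', hs', hr'⟩ := hfrac b
    rw [mem_nilradical] at hab ⊢
    rw [mem_nilradical]
    have h2 : IsNilpotent (r * r') := by
      rw [← key (x := a * b) (s := s * s') (by rw [map_mul]; exact hs.mul hs')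
        (by rw [map_mul, map_mul, ← hr, ← hr']; ring)]
      exact hab
    rw [key hs hr, key hs' hr']
    exact h1.mem_or_mem h2

theorem isPrimaryExt {k K E L : Type u} [Field k] [Field K] [Field E] [Field L]
    [Algebra k K] [Algebra k E] [Algebra k L] [Algebra K L] [Algebra E L]
    [IsScalarTower k K L] [IsScalarTower k E L] (hK : AbVar.IsPrimaryExt k K)
    (hdisj : Function.Injective (pm k K E L))
    (hgen : ∀ M : Subfield L, Set.range (algebraMap K L) ⊆ M → Set.range (algebraMap E L) ⊆ M → M = ⊤) :
    AbVar.IsPrimaryExt E L := by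
  apply Groth.Agent.S2150.result.1
  intro E' _ _
  let : Algebra k E' := ((algebraMap E E').comp (algebraMap k E)).toAlgebra
  have : IsScalarTower k E E' := IsScalarTower.of_algebraMap_eq fun _ => rfl
  have h1 : IrreducibleSpace (PrimeSpectrum (E' ⊗[k] K)) := Groth.Agent.S2150.result.2 hK E'
  let c : E ⊗[k] K →ₐ[E] L := Algebra.TensorProduct.lift (Algebra.ofId E L) (IsScalarTower.toAlgHom k K L)
    fun _ _ => Commute.all _ _
  have hc : Function.Injective c := by
    have h2 : ∀ x, c x = pm k K E L (Algebra.TensorProduct.comm k E K x) := by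
      intro x
      induction x with
      | zero => rw [map_zero, map_zero, map_zero]
      | add x y hx hy => rw [map_add, map_add, map_add, hx, hy]
      | tmul x y =>
        rw [Algebra.TensorProduct.lift_tmul, Algebra.TensorProduct.comm_tmul,
          Algebra.TensorProduct.productMap_apply_tmul, mul_comm]
        rfl
    intro x y hxy
    rw [h2, h2] at hxy
    exact (Algebra.TensorProduct.comm k E K).injective (hdisj hxy)
  let j : E' ⊗[k] K →ₐ[k] E' ⊗[E] L :=
    ((Algebra.TensorProduct.map (AlgHom.id E E') c).restrictScalars k).comp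
      ((Algebra.TensorProduct.cancelBaseChange k E E' E' K).symm.toAlgHom.restrictScalars k)
  have hjt : ∀ a b, j (a ⊗ₜ b) = a ⊗ₜ algebraMap K L b := by
    intro a b
    change Algebra.TensorProduct.map (AlgHom.id E E') c ((Algebra.TensorProduct.cancelBaseChange k E E' E' K).symm (a ⊗ₜ b)) = _
    rw [Algebra.TensorProduct.cancelBaseChange_symm_tmul, Algebra.TensorProduct.map_tmul, Algebra.TensorProduct.lift_tmul,
      map_one, one_mul]
    rfl
  have hj : Function.Injective j := by
    have h3 : Function.Injective (Algebra.TensorProduct.map (AlgHom.id E E') c) :=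
      Module.Flat.lTensor_preserves_injective_linearMap (M := E') c.toLinearMap hc
    exact h3.comp (Algebra.TensorProduct.cancelBaseChange k E E' E' K).symm.injective
  have hr : ∀ w : K ⊗[k] E, ∃ r, j r = 1 ⊗ₜ pm k K E L w := by
    intro w
    induction w with
    | zero => exact ⟨0, by rw [map_zero, map_zero, TensorProduct.tmul_zero]⟩
    | add x y hx hy =>
      obtain ⟨a, ha⟩ := hx
      obtain ⟨b, hb⟩ := hy
      exact ⟨a + b, by rw [map_add, ha, hb, map_add, TensorProduct.tmul_add]⟩
    | tmul x y =>
      refine ⟨algebraMap E E' y ⊗ₜ x, ?_⟩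
      rw [hjt, Algebra.TensorProduct.productMap_apply_tmul]
      change _ = 1 ⊗ₜ[E] (algebraMap K L x * algebraMap E L y)
      rw [mul_comm, ← Algebra.smul_def, TensorProduct.tmul_smul, TensorProduct.smul_tmul', Algebra.smul_def, mul_one]
  refine irreducible_of_frac j.toRingHom hj ?_
  intro x
  induction x with
  | zero => exact ⟨1, 0, by rw [map_one]; exact isUnit_one, by rw [map_one, map_zero, mul_one]⟩
  | add x y hx hy =>
    obtain ⟨s, r, h, h'⟩ := hx
    obtain ⟨s', r', g, g'⟩ := hy
    exact ⟨s * s', r * s' + r' * s, by rw [map_mul]; exact h.mul g, by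
      rw [map_mul, map_add, map_mul, map_mul, ← h', ← g']; ring⟩
  | tmul a l =>
    obtain ⟨x, y, hy, hxy⟩ := exists_frac (k := k) hgen l
    obtain ⟨s, hs⟩ := hr y
    obtain ⟨r, hr'⟩ := hr x
    refine ⟨s, (a ⊗ₜ 1) * r, ?_, ?_⟩
    · change IsUnit (j s)
      rw [hs]
      have hu : IsUnit (pm k K E L y) := hy.isUnit
      exact hu.map (Algebra.TensorProduct.includeRight : L →ₐ[E] E' ⊗[E] L)
    · change _ * j s = j _
      rw [hs, map_mul, hjt, hr', Algebra.TensorProduct.tmul_mul_tmul, Algebra.TensorProduct.tmul_mul_tmul, hxy,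
        map_one, mul_one, one_mul]

end Groth.Agent.AbVar.K509.PrimComp
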