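import Groth.Agent.AbVar.K509.UC
import Groth.Agent.AbVar.K509.PrimComp
import Groth.Agent.AbVar.K508.Pts
import Groth.Agent.Sga3C.FlatImage
import Groth.Agent.Grpsch.KerMul
import Groth.Agent.Sga3.H794.ChevKer

/-!
# Chow images and linearly disjoint extensions
-/

set_option autoImplicit false
universe u
open AlgebraicGeometry CategoryTheory Limits MonoidalCategory CartesianMonoidalCategory MonObj GrpObj

namespace Groth.Agent.AbVar.K509.ImgComp

open WeilFin SpreadAlg

/-- A quasi-compact surjective homomorphism of group schemes over a field onto a reduced locally noetherian group scheme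
is flat. -/
theorem flat_of_surjective (K : Type u) [Field K] {G H : Over (Spec (CommRingCat.of K))}
    [GrpObj G] [GrpObj H] (f : G ⟶ H) [IsMonHom f] [QuasiCompact f.left] [Surjective f.left]
    [IsReduced H.left] [IsLocallyNoetherian H.left] : Flat f.left := by
  have h1 : Subsingleton ↥(Spec (CommRingCat.of K)) := inferInstanceAs (Subsingleton (PrimeSpectrum K))
  have h2 : ∀ X : Scheme.{u}, ∀ g : X ⟶ Spec (CommRingCat.of K), Flat g := fun X g => by
    infer_instance
  have h3 : Flat G.hom := h2 _ _
  have h4 : IsSchemeTheoreticallyDominant f.left := .of_isDominant _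
  exact Sga3C.FlatImage.flat_of_flat_ker f (h2 _ _) f (𝟙 H) (Category.comp_id f)

section fac

variable {K : Type u} [Field K] {S' : Scheme.{u}} (a : S' ⟶ Spec (CommRingCat.of K))

/-- A homomorphism trivial on the base change of the kernel of a surjective homomorphism of abelian varieties factors. -/
theorem exists_fac {A P N : Over (Spec (CommRingCat.of K))} [GrpObj A] [GrpObj P] [GrpObj N] [IsProper A.hom]
    [IsProper P.hom] [GeometricallyIntegral P.hom] (lam : A ⟶ P) [IsMonHom lam] [Surjective lam.left]
    (n : N ⟶ A) [IsMonHom n] (hn : AlgGrp.IsKernel n lam)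
    {X : Over S'} [GrpObj X] (α : Red.bc a A ⟶ X) [IsMonHom α] (h : (Over.pullback a).map n ≫ α = 1) :
    ∃ ga : Red.bc a P ⟶ X, IsMonHom ga ∧ (Over.pullback a).map lam ≫ ga = α := by
  have hs : Subsingleton (Spec (CommRingCat.of K)) := inferInstanceAs (Subsingleton (PrimeSpectrum K))
  have hPn : IsLocallyNoetherian P.left := LocallyOfFiniteType.isLocallyNoetherian (Y := Spec (CommRingCat.of K)) P.hom
  have hPi : IsIntegral P.left := GeometricallyIntegral.isIntegral_of_subsingleton P.hom
  have hpp : IsProper lam.left := by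
    have h3 : IsProper (lam.left ≫ P.hom) := by rw [Over.w]; infer_instance
    exact IsProper.of_comp lam.left P.hom
  have g2 : Flat lam.left := flat_of_surjective K lam
  have g3 : LocallyOfFinitePresentation lam.left := inferInstance
  have hsq := _root_.K508.Pts.isPullback_map_left a lam
  have f1 : Flat ((Over.pullback a).map lam).left :=
    MorphismProperty.of_isPullback (P := @Flat) hsq.flip g2
  have f2 : Surjective ((Over.pullback a).map lam).left :=
    MorphismProperty.of_isPullback (P := @Surjective) hsq.flip ‹_›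
  have f3 : LocallyOfFinitePresentation ((Over.pullback a).map lam).left :=
    MorphismProperty.of_isPullback (P := @LocallyOfFinitePresentation) hsq.flip g3
  exact Sga3.H794.ChevKer.exists_desc_hom ((Over.pullback a).map n) ((Over.pullback a).map lam : Red.bc a A ⟶ Red.bc a P)
    (_root_.K508.Pts.isKernel_bc a hn) α h

end fac

variable {k K E L : Type u} [Field k] [Field K] [Field E] [Field L]
    [Algebra k K] [Algebra k E] [Algebra k L] [Algebra K L] [Algebra E L]
    [IsScalarTower k K L] [IsScalarTower k E L]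

/-- Chow's image commutes with linearly disjoint extensions of the constant field (`K/k` primary). -/
theorem image_fac (hK : AbVar.IsPrimaryExt k K)
    (hdisj : Function.Injective (pm k K E L))
    (hgen : ∀ M : Subfield L, Set.range (algebraMap K L) ⊆ M → Set.range (algebraMap E L) ⊆ M → M = ⊤)
    (A : Over (Spec (CommRingCat.of K))) [GrpObj A] [IsProper A.hom] [GeometricallyIntegral A.hom]
    (A₀ : Over (Spec (CommRingCat.of k))) [GrpObj A₀] [IsProper A₀.hom] [GeometricallyIntegral A₀.hom]
    (lam : A ⟶ Red.bc (AbVar.ext k K) A₀) (h : AbVar.IsChowImage k K A A₀ lam)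
    (θ : Red.bc (AbVar.ext K L) (Red.bc (AbVar.ext k K) A₀) ≅ Red.bc (AbVar.ext E L) (Red.bc (AbVar.ext k E) A₀))
    [IsMonHom θ.hom] :
    AbVar.IsChowImage E L (Red.bc (AbVar.ext K L) A) (Red.bc (AbVar.ext k E) A₀)
      ((Over.pullback (AbVar.ext K L)).map lam ≫ θ.hom) := by
  have hlam := h.isMonHom
  have hs := h.surjective
  have hsl : Surjective ((Over.pullback (AbVar.ext K L)).map lam).left :=
    MorphismProperty.of_isPullback (P := @Surjective) (_root_.K508.Pts.isPullback_map_left (AbVar.ext K L) lam).flip hs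
  let P : Over (Spec (CommRingCat.of K)) := Red.bc (AbVar.ext k K) A₀
  have p1 : IsProper P.hom := inferInstanceAs (IsProper (pullback.snd A₀.hom (AbVar.ext k K)))
  have p2 : GeometricallyIntegral P.hom := inferInstanceAs (GeometricallyIntegral (pullback.snd A₀.hom (AbVar.ext k K)))
  let A₁ : Over (Spec (CommRingCat.of E)) := Red.bc (AbVar.ext k E) A₀
  have q1 : IsProper A₁.hom := inferInstanceAs (IsProper (pullback.snd A₀.hom (AbVar.ext k E)))
  have q2 : GeometricallyIntegral A₁.hom := inferInstanceAs (GeometricallyIntegral (pullback.snd A₀.hom (AbVar.ext k E)))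
  refine ⟨?_, ?_, ?_⟩
  · have : IsMonHom ((Over.pullback (AbVar.ext K L)).map lam : Red.bc (AbVar.ext K L) A ⟶ Red.bc (AbVar.ext K L) P) :=
      inferInstance
    exact inferInstanceAs (IsMonHom (((Over.pullback (AbVar.ext K L)).map lam :
      Red.bc (AbVar.ext K L) A ⟶ Red.bc (AbVar.ext K L) P) ≫ θ.hom))
  · rw [Over.comp_left]
    have : IsIso θ.hom.left := inferInstanceAs (IsIso ((Over.forget _).map θ.hom))
    infer_instance
  · intro B _ _ _ α _
    obtain ⟨N, _, n, hn, hN⟩ := Grpsch.KerMul.exists_kernel lam
    have hk : Kills n (AbVar.ext k K) := by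
      intro C _ _ _ β _
      obtain ⟨α₀, hα₀, rfl⟩ := h.fac C β
      have h1 : n ≫ lam = 1 := by
        have h2 := Sga3.H794.ChevKer.ker_comp hN (𝟙 N)
        rwa [Category.id_comp] at h2
      rw [← Category.assoc, h1, MonObj.one_comp]
    obtain ⟨ga, hga, hgaα⟩ := exists_fac (AbVar.ext K L) lam n hN α (UC.uc hK hdisj hgen n hk B α)
    obtain ⟨g₀, hg₀, hg₀'⟩ := _root_.K509.ChowHom.exists_monHom_of_isPrimaryExt E L (PrimComp.isPrimaryExt hK hdisj hgen)
      A₁ B (θ.inv ≫ ga)
    refine ⟨g₀, hg₀, ?_⟩
    rw [Category.assoc, hg₀', Iso.hom_inv_id_assoc, hgaα]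

end Groth.Agent.AbVar.K509.ImgComp
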