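import Groth.Agent.Sga3.H780.RigidProper

/-!
# Rigidity with an irreducible (possibly non-reduced) parameter scheme

`rigid`: `P` proper geometrically integral over a field `k`, `Y` an irreducible `k`-scheme, `A` separated,
`ψ : P × Y ⟶ A` set-theoretically constant on one fibre of `P × Y ⟶ Y`;
then `ψ(p, y) = ψ(p₀, y)` for every rational point `p₀` of `P`.
-/

set_option autoImplicit false
universe u
open AlgebraicGeometry CategoryTheory Limits MonoidalCategory CartesianMonoidalCategory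

namespace K509.Rigid

variable {k : Type u} [Field k]

theorem isReduced_nilradical (X : Scheme.{u}) : IsReduced X.nilradical.subscheme := by
  have : ∀ i, IsReduced (X.nilradical.subschemeCover.openCover.X i) := by
    intro U
    have h1 : _root_.IsReduced (Γ(X, U.1) ⧸ X.nilradical.ideal U) := by
      rw [← Ideal.isRadical_iff_quotient_reduced]
      exact Ideal.radical_isRadical _
    exact inferInstanceAs (IsReduced (Spec (CommRingCat.of (Γ(X, U.1) ⧸ X.nilradical.ideal U))))
  exact IsReduced.of_openCover _ X.nilradical.subschemeCover.openCover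

theorem surjective_nilradical (X : Scheme.{u}) : Surjective X.nilradical.subschemeι := by
  refine ⟨Set.range_eq_univ.mp ?_⟩
  rw [Scheme.IdealSheafData.range_subschemeι, Scheme.support_nilradical]
  rfl

theorem isIntegral_nilradical (X : Scheme.{u}) [IrreducibleSpace X] :
    IsIntegral X.nilradical.subscheme := by
  have h1 := isReduced_nilradical X
  have h2 := surjective_nilradical X
  have h3 : Topology.IsClosedEmbedding X.nilradical.subschemeι := X.nilradical.subschemeι.isClosedEmbedding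
  have h4 : IsHomeomorph X.nilradical.subschemeι :=
    isHomeomorph_iff_isEmbedding_surjective.mpr ⟨h3.isEmbedding, h2.surj⟩
  have : IrreducibleSpace X.nilradical.subscheme :=
    (h4.homeomorph _).symm.surjective.irreducibleSpace (h4.homeomorph _).symm.continuous
  exact isIntegral_of_irreducibleSpace_of_isReduced _

theorem isPullback_whiskerLeft {S : Scheme.{u}} (P : Over S) {R Y : Over S} (j : R ⟶ Y) :
    IsPullback (P ◁ j) (snd P R) (snd P Y) j := by
  refine ⟨⟨by simp⟩, ⟨PullbackCone.IsLimit.mk _ (fun s => lift (s.fst ≫ fst P Y) s.snd) ?_ ?_ ?_⟩⟩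
  · intro s
    have h2 := s.condition
    apply CartesianMonoidalCategory.hom_ext
    · simp
    · simp [h2]
  · intro s; simp
  · intro s m h1 h2
    apply CartesianMonoidalCategory.hom_ext
    · simp [← h1]
    · simpa using h2

/-- The set-theoretic constancy on a fibre gives constancy over a neighbourhood. -/
theorem exists_nhd (P Y A : Over (Spec (CommRingCat.of k))) [IsProper P.hom] [GeometricallyIntegral P.hom]
    (ψ : P ⊗ Y ⟶ A)
    (p₀ : 𝟙_ (Over (Spec (CommRingCat.of k))) ⟶ P) (y₀ : Y.left)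
    (h : ∀ z z' : (P ⊗ Y).left, (snd P Y).left z = y₀ → (snd P Y).left z' = y₀ →
      ψ.left z = ψ.left z') :
    ∃ (T₀ : Y.left.Opens) (_ : y₀ ∈ T₀),
      (P ◁ (Over.homMk T₀.ι rfl : Over.mk (T₀.ι ≫ Y.hom) ⟶ Y)) ≫ ψ =
      (P ◁ (Over.homMk T₀.ι rfl : Over.mk (T₀.ι ≫ Y.hom) ⟶ Y)) ≫ lift (toUnit _ ≫ p₀) (snd P Y) ≫ ψ := by
  let pt : (Spec (CommRingCat.of k)) := IsLocalRing.closedPoint k
  have hsub : Subsingleton (Spec (CommRingCat.of k)) := inferInstanceAs (Subsingleton (PrimeSpectrum k))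
  obtain ⟨z₀, -, hz₀⟩ := Scheme.Pullback.exists_preimage_pullback (f := P.hom) (g := Y.hom)
    (p₀.left pt) y₀ (hsub.elim _ _)
  change (snd P Y).left z₀ = y₀ at hz₀
  obtain ⟨_, ⟨W', hW, rfl⟩, haW, -⟩ := A.left.isBasis_affineOpens.exists_subset_of_mem_open
    (Set.mem_univ (ψ.left z₀)) isOpen_univ
  let W : A.left.Opens := W'
  have hcl : IsClosedMap (snd P Y).left := by
    have : IsProper (snd P Y).left := by dsimp; infer_instance
    exact (snd P Y).left.isClosedMap
  let Z : Set Y.left := (snd P Y).left '' (ψ.left ⁻¹' (W : Set A.left)ᶜ)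
  have hZ : IsClosed Z := hcl _ (W.isOpen.isClosed_compl.preimage ψ.left.continuous)
  have hy0 : y₀ ∉ Z := by
    rintro ⟨z, hz, hz'⟩
    exact hz (by rw [h z z₀ hz' hz₀]; exact haW)
  obtain ⟨_, ⟨T', hT, rfl⟩, hyT, hTZ⟩ := Y.left.isBasis_affineOpens.exists_subset_of_mem_open
    (show y₀ ∈ Zᶜ from hy0) hZ.isOpen_compl
  let T₀ : Y.left.Opens := T'
  refine ⟨T₀, hyT, ?_⟩
  let T : Over (Spec (CommRingCat.of k)) := Over.mk (T₀.ι ≫ Y.hom)
  let i : T ⟶ Y := Over.homMk T₀.ι rfl
  have hTaff : IsAffine T.left := hT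
  have hmem : ∀ z : (P ⊗ Y).left, (snd P Y).left z ∈ T₀ → ψ.left z ∈ W := by
    intro z hz
    by_contra hcon
    exact hTZ hz ⟨z, hcon, rfl⟩
  have hsT : (P ◁ i) ≫ snd P Y = snd P T ≫ i := by simp
  have hsnd : ∀ z : (P ⊗ T).left, (snd P Y).left ((P ◁ i).left z) ∈ T₀ := by
    intro z
    rw [← Scheme.Hom.comp_apply, ← Over.comp_left, hsT, Over.comp_left, Scheme.Hom.comp_apply]
    have : i.left ((snd P T).left z) ∈ Set.range T₀.ι := ⟨_, rfl⟩
    simpa using this
  let r : P ⊗ Y ⟶ P ⊗ Y := lift (toUnit _ ≫ p₀) (snd P Y)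
  have hrs : r ≫ snd P Y = snd P Y := lift_snd _ _
  change (P ◁ i) ≫ ψ = (P ◁ i) ≫ r ≫ ψ
  refine Groth.Agent.Sga3.H780.RigidProper.eq_of_section P T A p₀ _ _ W hW ?_ ?_ ?_
  · intro z
    rw [Over.comp_left, Scheme.Hom.comp_apply]
    exact hmem _ (hsnd z)
  · intro z
    rw [Over.comp_left, Over.comp_left, Scheme.Hom.comp_apply, Scheme.Hom.comp_apply]
    refine hmem _ ?_
    rw [← Scheme.Hom.comp_apply, ← Over.comp_left, hrs]
    exact hsnd z
  · rw [← Category.assoc, ← Category.assoc, ← Category.assoc]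
    congr 1
    apply CartesianMonoidalCategory.hom_ext
    · simp [r]
    · simp [r]

theorem isIntegral_pullback {P Y S : Scheme.{u}} (f : P ⟶ S) (g : Y ⟶ S) [GeometricallyIntegral f]
    [Flat f] [UniversallyOpen f] [IsIntegral Y] : IsIntegral (pullback f g) := by
  have h1 : GeometricallyReduced (pullback.snd f g) := inferInstance
  have h2 : Finite (irreducibleComponents ↥Y) := by
    rw [irreducibleComponents_eq_singleton]
    infer_instance
  have h3 : IsReduced (pullback f g) :=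
    GeometricallyReduced.isReduced_of_flat_of_finite_irreducibleComponents (pullback.snd f g)
  have h4 : IrreducibleSpace ↥(pullback f g) := inferInstance
  exact isIntegral_of_irreducibleSpace_of_isReduced _

/-- The rigidity lemma over an integral parameter scheme. -/
theorem rigid_integral (P Y A : Over (Spec (CommRingCat.of k))) [IsProper P.hom]
    [GeometricallyIntegral P.hom] [IsIntegral Y.left] [IsSeparated A.hom] (ψ : P ⊗ Y ⟶ A)
    (p₀ : 𝟙_ (Over (Spec (CommRingCat.of k))) ⟶ P) (y₀ : Y.left)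
    (h : ∀ z z' : (P ⊗ Y).left, (snd P Y).left z = y₀ → (snd P Y).left z' = y₀ →
      ψ.left z = ψ.left z') :
    ψ = lift (toUnit _ ≫ p₀) (snd P Y) ≫ ψ := by
  obtain ⟨T₀, hyT, key⟩ := exists_nhd P Y A ψ p₀ y₀ h
  let pt : (Spec (CommRingCat.of k)) := IsLocalRing.closedPoint k
  have hsub : Subsingleton (Spec (CommRingCat.of k)) := inferInstanceAs (Subsingleton (PrimeSpectrum k))
  let T : Over (Spec (CommRingCat.of k)) := Over.mk (T₀.ι ≫ Y.hom)
  let i : T ⟶ Y := Over.homMk T₀.ι rfl
  have hi : IsOpenImmersion i.left := inferInstanceAs (IsOpenImmersion T₀.ι)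
  have hint : IsIntegral (P ⊗ Y).left := by
    change IsIntegral (pullback P.hom Y.hom)
    exact isIntegral_pullback P.hom Y.hom
  ext1
  have hdom : IsDominant (P ◁ i).left := by
    have hoi : IsOpenImmersion (P ◁ i).left := by
      rw [Over.whiskerLeft_left]
      infer_instance
    have hirr : IrreducibleSpace (P ⊗ Y).left := inferInstance
    refine ⟨?_⟩
    have hne : (Set.range (P ◁ i).left).Nonempty := by
      have hTne : Nonempty T.left := ⟨⟨y₀, hyT⟩⟩
      let y : T.left := hTne.some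
      obtain ⟨w, -⟩ := Scheme.Pullback.exists_preimage_pullback (f := P.hom) (g := T.hom) (p₀.left pt) y
        (hsub.elim _ _)
      exact ⟨_, ⟨w, rfl⟩⟩
    exact (P ◁ i).left.isOpenEmbedding.isOpen_range.dense hne
  refine ext_of_isDominant_of_isSeparated (A.hom) ?_ (P ◁ i).left ?_
  · rw [Over.w, Over.w]
  · rw [← Over.comp_left, ← Over.comp_left, key]

/-- The rigidity lemma over an irreducible parameter scheme. -/
theorem rigid (P Y A : Over (Spec (CommRingCat.of k))) [IsProper P.hom]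
    [GeometricallyIntegral P.hom] [IrreducibleSpace Y.left] [IsSeparated A.hom] (ψ : P ⊗ Y ⟶ A)
    (p₀ : 𝟙_ (Over (Spec (CommRingCat.of k))) ⟶ P) (y₀ : Y.left)
    (h : ∀ z z' : (P ⊗ Y).left, (snd P Y).left z = y₀ → (snd P Y).left z' = y₀ →
      ψ.left z = ψ.left z') :
    ψ = lift (toUnit _ ≫ p₀) (snd P Y) ≫ ψ := by
  -- the reduction of `Y`
  let R : Over (Spec (CommRingCat.of k)) := Over.mk (Y.left.nilradical.subschemeι ≫ Y.hom)
  let j : R ⟶ Y := Over.homMk Y.left.nilradical.subschemeι rfl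
  have hR : IsIntegral R.left := isIntegral_nilradical Y.left
  have hjs : Surjective j.left := surjective_nilradical Y.left
  have hji : Function.Injective j.left := Y.left.nilradical.subschemeι.isClosedEmbedding.injective
  have hPj : Surjective (P ◁ j).left := by
    have h0 := isPullback_whiskerLeft P j
    exact MorphismProperty.of_isPullback (P := @Surjective) (h0.map (Over.forget _)).flip hjs
  have hsnd : (P ◁ j) ≫ snd P Y = snd P R ≫ j := by simp
  obtain ⟨y₁, hy₁⟩ := hjs.surj y₀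
  have h1 := rigid_integral P R A ((P ◁ j) ≫ ψ) p₀ y₁ (by
    intro z z' hz hz'
    rw [Over.comp_left, Scheme.Hom.comp_apply, Scheme.Hom.comp_apply]
    apply h
    · rw [← Scheme.Hom.comp_apply, ← Over.comp_left, hsnd, Over.comp_left, Scheme.Hom.comp_apply, hz, hy₁]
    · rw [← Scheme.Hom.comp_apply, ← Over.comp_left, hsnd, Over.comp_left, Scheme.Hom.comp_apply, hz', hy₁])
  -- constancy on all fibres
  have h2 : ∀ z z' : (P ⊗ Y).left, (snd P Y).left z = (snd P Y).left z' → ψ.left z = ψ.left z' := by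
    intro z z' hzz
    obtain ⟨w, rfl⟩ := hPj.surj z
    obtain ⟨w', rfl⟩ := hPj.surj z'
    have h3 : (snd P R).left w = (snd P R).left w' := by
      apply hji
      have h6 : ∀ v : (P ⊗ R).left, (snd P Y).left ((P ◁ j).left v) = j.left ((snd P R).left v) := by
        intro v
        rw [← Scheme.Hom.comp_apply, ← Over.comp_left, hsnd, Over.comp_left, Scheme.Hom.comp_apply]
      rw [← h6, ← h6, hzz]
    have h4 : ∀ v : (P ⊗ R).left, ψ.left ((P ◁ j).left v) =
        ((lift (toUnit _ ≫ p₀) (𝟙 R) : R ⟶ P ⊗ R) ≫ (P ◁ j) ≫ ψ).left ((snd P R).left v) := by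
      intro v
      have h5 : (P ◁ j) ≫ ψ = snd P R ≫ (lift (toUnit _ ≫ p₀) (𝟙 R) : R ⟶ P ⊗ R) ≫ (P ◁ j) ≫ ψ := by
        conv_lhs => rw [h1]
        rw [← Category.assoc (snd P R)]
        congr 1
        apply CartesianMonoidalCategory.hom_ext
        · simp
        · simp
      rw [← Scheme.Hom.comp_apply, ← Over.comp_left, h5, Over.comp_left, Scheme.Hom.comp_apply, ← h5]
    rw [h4, h4, h3]
  -- conclude on an open cover
  let U : ∀ y : Y.left, Y.left.Opens := fun y =>
    (exists_nhd P Y A ψ p₀ y (fun z z' hz hz' => h2 z z' (hz.trans hz'.symm))).choose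
  have hU : ∀ y, y ∈ U y := fun y =>
    (exists_nhd P Y A ψ p₀ y (fun z z' hz hz' => h2 z z' (hz.trans hz'.symm))).choose_spec.choose
  have hUψ : ∀ y, (P ◁ (Over.homMk (U y).ι rfl : Over.mk ((U y).ι ≫ Y.hom) ⟶ Y)) ≫ ψ =
      (P ◁ (Over.homMk (U y).ι rfl : Over.mk ((U y).ι ≫ Y.hom) ⟶ Y)) ≫
        lift (toUnit _ ≫ p₀) (snd P Y) ≫ ψ := fun y =>
    (exists_nhd P Y A ψ p₀ y (fun z z' hz hz' => h2 z z' (hz.trans hz'.symm))).choose_spec.choose_spec
  ext1
  refine Scheme.hom_ext_of_forall _ _ fun z => ?_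
  let y := (snd P Y).left z
  let T : Over (Spec (CommRingCat.of k)) := Over.mk ((U y).ι ≫ Y.hom)
  let i : T ⟶ Y := Over.homMk (U y).ι rfl
  have hpb : IsPullback (P ◁ i).left (snd P T).left (snd P Y).left i.left :=
    (isPullback_whiskerLeft P i).map (Over.forget _)
  refine ⟨(snd P Y).left ⁻¹ᵁ (U y), hU y, ?_⟩
  have hw : ((snd P Y).left ⁻¹ᵁ (U y)).ι ≫ (snd P Y).left = ((snd P Y).left ∣_ (U y)) ≫ i.left :=
    (morphismRestrict_ι _ _).symm
  have h7 := hpb.lift_fst _ _ hw
  have h8 : (P ◁ i) ≫ ψ = (P ◁ i) ≫ lift (toUnit _ ≫ p₀) (snd P Y) ≫ ψ := hUψ y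
  have h9 : (P ◁ i).left ≫ ψ.left = (P ◁ i).left ≫ (lift (toUnit _ ≫ p₀) (snd P Y) ≫ ψ).left := by
    rw [← Over.comp_left, h8, Over.comp_left]
  rw [← h7, Category.assoc, Category.assoc, h9]

end K509.Rigid
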