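import Groth.Agent.AbVar.K509.ChowHom

/-!
# Regular extensions are primary; the canonical identification of iterated base changes
-/

set_option autoImplicit false
universe u
open AlgebraicGeometry CategoryTheory Limits MonoidalCategory CartesianMonoidalCategory MonObj GrpObj

namespace Groth.Agent.AbVar.K509.Theta

/-- A regular extension is primary. -/
theorem isPrimaryExt_of_regular (k K : Type u) [Field k] [Field K] [Algebra k K]
    [GeometricallyIntegral (AbVar.ext k K)] : AbVar.IsPrimaryExt k K := by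
  apply Groth.Agent.S2150.result.1
  intro k' _ _
  let s : Spec (CommRingCat.of k') ⟶ Spec (CommRingCat.of k) := Spec.map (CommRingCat.ofHom (algebraMap k k'))
  have hs : Subsingleton ↥(Spec (CommRingCat.of k')) := inferInstanceAs (Subsingleton (PrimeSpectrum k'))
  have hZ : IsIntegral (pullback s (AbVar.ext k K)) :=
    GeometricallyIntegral.isIntegral_of_subsingleton (pullback.fst s (AbVar.ext k K))
  have h2 : IrreducibleSpace ↥(pullback s (AbVar.ext k K)) := inferInstance
  let e := (pullbackSpecIso k k' K).schemeIsoToHomeo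
  exact e.surjective.irreducibleSpace e.continuous


section theta

open _root_.K509.Basic

variable {S T T' U : Scheme.{u}} {a : U ⟶ T} {g : T ⟶ S} {b : U ⟶ T'} {e : T' ⟶ S} (hc : a ≫ g = b ≫ e) (A₀ : Over S)

/-- The canonical identification `(A₀)_{T,U} = (A₀)_{T',U}`. -/
noncomputable def theta : Red.bc a (Red.bc g A₀) ≅ Red.bc b (Red.bc e A₀) :=
  (tow hc A₀).symm ≪≫ tow (rfl : b ≫ e = b ≫ e) A₀

instance isMonHom_theta [GrpObj A₀] : IsMonHom (theta hc A₀).hom := by
  have h1 : IsMonHom (tow hc A₀).inv := isMonHom_tow_inv hc A₀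
  have h2 : IsMonHom (tow (rfl : b ≫ e = b ≫ e) A₀).hom := isMonHom_tow_hom _ A₀
  exact inferInstanceAs (IsMonHom ((tow hc A₀).inv ≫ (tow (rfl : b ≫ e = b ≫ e) A₀).hom))

theorem theta_hom : (theta hc A₀).hom = (Over.pullbackComp a g).inv.app A₀ ≫
    eqToHom (congrArg (fun φ => Red.bc φ A₀) hc) ≫ (Over.pullbackComp b e).hom.app A₀ := by
  have h2 : (theta hc A₀).hom = (tow hc A₀).inv ≫ (tow (rfl : b ≫ e = b ≫ e) A₀).hom := rfl
  rw [h2, tow_inv, tow_hom, Category.assoc, eqToHom_refl, Category.id_comp]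

theorem theta_inv : (theta hc A₀).inv = (Over.pullbackComp b e).inv.app A₀ ≫
    eqToHom (congrArg (fun φ => Red.bc φ A₀) hc.symm) ≫ (Over.pullbackComp a g).hom.app A₀ := by
  have h2 : (theta hc A₀).inv = (tow (rfl : b ≫ e = b ≫ e) A₀).inv ≫ (tow hc A₀).hom := rfl
  rw [h2, tow_inv, tow_hom, eqToHom_refl, Category.comp_id]

theorem wrap_image (A : Over T) (lam : A ⟶ Red.bc g A₀) (P : (Red.bc a A ⟶ Red.bc b (Red.bc e A₀)) → Prop)
    (h : P ((Over.pullback a).map lam ≫ (theta hc A₀).hom)) :
    P ((Over.pullback a).map lam ≫ (Over.pullbackComp a g).inv.app A₀ ≫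
      eqToHom (congrArg (fun φ => Red.bc φ A₀) hc) ≫ (Over.pullbackComp b e).hom.app A₀) := by
  rw [theta_hom] at h
  exact h

theorem wrap_trace (A : Over T) (tau : Red.bc g A₀ ⟶ A) (P : (Red.bc b (Red.bc e A₀) ⟶ Red.bc a A) → Prop)
    (h : P ((theta hc A₀).inv ≫ (Over.pullback a).map tau)) :
    P ((Over.pullbackComp b e).inv.app A₀ ≫ eqToHom (congrArg (fun φ => Red.bc φ A₀) hc.symm) ≫
      (Over.pullbackComp a g).hom.app A₀ ≫ (Over.pullback a).map tau) := by
  rw [theta_inv, Category.assoc, Category.assoc] at h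
  exact h

end theta

end Groth.Agent.AbVar.K509.Theta
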